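import Mathlib

namespace Groth.Agent.Lib.Helper32.MaxEt

theorem isSemisimpleRing_of_retraction {A B : Type*} [Ring A] [Ring B] [IsSemisimpleRing A]
    (ι : B →+* A) (π : A →+ B) (h1 : ∀ b, π (ι b) = b)
    (hl : ∀ b a, π (ι b * a) = b * π a) (hr : ∀ a b, π (a * ι b) = π a * b) :
    IsSemisimpleRing B := by
  refine (isSemisimpleModule_iff B B).mpr ⟨fun I => ?_⟩
  let AI : Submodule A A := Submodule.span A (ι '' (I : Set B))
  obtain ⟨J', hJ'⟩ := exists_isCompl AI
  let p : A →ₗ[A] AI := Submodule.linearProjOfIsCompl AI J' hJ'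
  have hpmem : ∀ x : A, x ∈ AI → ∀ a : A, π (a * x) ∈ I := by
    intro x hx
    induction hx using Submodule.span_induction with
    | mem x hx =>
      obtain ⟨i, hi, rfl⟩ := hx
      intro a
      rw [hr]
      exact I.smul_mem _ hi
    | zero => intro a; simp
    | add x y _ _ hx hy =>
      intro a
      rw [mul_add, map_add]
      exact I.add_mem (hx a) (hy a)
    | smul a' x _ hx =>
      intro a
      rw [smul_eq_mul, ← mul_assoc]
      exact hx (a * a')
  let q : B →ₗ[B] B :=
    { toFun := fun b => π ((p (ι b) : A))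
      map_add' := fun b b' => by simp
      map_smul' := fun b b' => by
        simp only [smul_eq_mul, map_mul, RingHom.id_apply]
        have : p (ι b * ι b') = ι b • p (ι b') := by
          rw [← smul_eq_mul, map_smul]
        rw [this]
        show π (ι b * (p (ι b') : A)) = _
        rw [hl] }
  have hqmem : ∀ b, q b ∈ I := by
    intro b
    have := hpmem (p (ι b) : A) (p (ι b)).2 1
    rwa [one_mul] at this
  have hqid : ∀ i ∈ I, q i = i := by
    intro i hi
    have hmem : ι i ∈ AI := Submodule.subset_span ⟨i, hi, rfl⟩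
    show π ((p (ι i) : A)) = i
    have : (p (ι i) : A) = ι i := by
      have := Submodule.linearProjOfIsCompl_apply_left hJ' ⟨ι i, hmem⟩
      exact congrArg Subtype.val this
    rw [this, h1]
  refine ⟨LinearMap.ker q, ?_⟩
  constructor
  · rw [disjoint_iff_inf_le]
    intro x ⟨hxI, hxq⟩
    have h := hqid x hxI
    rw [LinearMap.mem_ker.mp hxq] at h
    simp [← h]
  · rw [codisjoint_iff_le_sup]
    intro b _
    have : b = q b + (b - q b) := by abel
    rw [this]
    refine Submodule.add_mem_sup (hqmem b) ?_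
    rw [LinearMap.mem_ker, map_sub, hqid _ (hqmem b), sub_self]

theorem eq_zero_of_central_sq_zero {R : Type*} [Ring R] [IsSemisimpleRing R] (n : R)
    (hc : ∀ r, n * r = r * n) (hn : n * n = 0) : n = 0 := by
  obtain ⟨J, hJ⟩ := exists_isCompl (Submodule.span R {n} : Submodule R R)
  have h1 : (1 : R) ∈ (Submodule.span R {n} : Submodule R R) ⊔ J := by
    rw [hJ.sup_eq_top]; trivial
  obtain ⟨x, hx, j, hj, hxj⟩ := Submodule.mem_sup.mp h1
  obtain ⟨r, rfl⟩ := Submodule.mem_span_singleton.mp hx
  have hnj : n * j ∈ J := J.smul_mem n hj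
  have hnj' : n * j ∈ (Submodule.span R {n} : Submodule R R) := by
    rw [hc j]
    exact Submodule.mem_span_singleton.mpr ⟨j, rfl⟩
  have h0 : n * j = 0 := by
    have := hJ.disjoint.le_bot ⟨hnj', hnj⟩
    simpa using this
  have : n = n * (r • n + j) := by rw [hxj, mul_one]
  rw [this, mul_add, h0, add_zero, smul_eq_mul, hc (r * n), mul_assoc, hn, mul_zero]

end Groth.Agent.Lib.Helper32.MaxEt
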