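import Mathlib

namespace Groth.Agent.Lib.Helper32.MaxEt

open Polynomial TensorProduct

variable {k : Type*} [Field k] {B : Type*} [Ring B] [Algebra k B]

theorem isSeparable_of_forall_nilpotent (x : B) (hx : IsIntegral k x)
    (H : ∀ q : (AlgebraicClosure k)[X],
      aeval ((1 : AlgebraicClosure k) ⊗ₜ[k] x) q * aeval ((1 : AlgebraicClosure k) ⊗ₜ[k] x) q = 0 →
      aeval ((1 : AlgebraicClosure k) ⊗ₜ[k] x) q = 0) : IsSeparable k x := by
  classical
  set K := AlgebraicClosure k
  set f := minpoly k x with hf
  have hf0 : f ≠ 0 := minpoly.ne_zero hx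
  by_contra hsep
  change ¬ f.Separable at hsep
  have hsplit : (f.map (algebraMap k K)).Splits := IsAlgClosed.splits _
  rw [← nodup_aroots_iff_of_splits hf0 hsplit, Multiset.nodup_iff_count_le_one] at hsep
  push_neg at hsep
  obtain ⟨a, ha⟩ := hsep
  rw [aroots, count_roots] at ha
  have hdvd : (X - C a) ^ 2 ∣ f.map (algebraMap k K) :=
    (pow_dvd_pow _ ha).trans (pow_rootMultiplicity_dvd _ a)
  obtain ⟨s, hs⟩ := hdvd
  set X1 : K ⊗[k] B := 1 ⊗ₜ x with hX1
  have hfX : aeval X1 (f.map (algebraMap k K)) = 0 := by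
    rw [aeval_map_algebraMap]
    have : X1 = (Algebra.TensorProduct.includeRight : B →ₐ[k] K ⊗[k] B) x := rfl
    rw [this, aeval_algHom_apply, minpoly.aeval, map_zero]
  set q := (X - C a) * s with hq
  have hfq : f.map (algebraMap k K) = (X - C a) * q := by rw [hs, hq]; ring
  have hq2 : aeval X1 q * aeval X1 q = 0 := by
    rw [← map_mul]
    have : q * q = f.map (algebraMap k K) * s := by rw [hs]; ring
    rw [this, map_mul, hfX, zero_mul]
  have hq0 := H q hq2
  have hfm0 : f.map (algebraMap k K) ≠ 0 := Polynomial.map_ne_zero hf0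
  have hqne : q ≠ 0 := by
    intro h
    rw [h, mul_zero] at hfq
    exact hfm0 hfq
  have hdeg : q.natDegree + 1 = f.natDegree := by
    have h1 := congrArg natDegree hfq
    rw [natDegree_map, natDegree_mul (X_sub_C_ne_zero a) hqne, natDegree_X_sub_C] at h1
    omega
  set d := f.natDegree with hd
  let v : Fin d → B := fun i => x ^ (i : ℕ)
  have hli : LinearIndependent k v := linearIndependent_pow x
  let T : (Fin d → k) →ₗ[k] B := Fintype.linearCombination k v
  have hT : LinearMap.ker T = ⊥ := by
    rw [LinearMap.ker_eq_bot]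
    intro c c' hcc
    have := Fintype.linearIndependent_iff.mp hli (c - c') (by
      have : T (c - c') = 0 := by rw [map_sub, hcc, sub_self]
      simpa [T, Fintype.linearCombination_apply] using this)
    funext i
    have hi := this i
    simpa [sub_eq_zero] using hi
  obtain ⟨g, hg⟩ := LinearMap.exists_leftInverse_of_injective T hT
  have hgv : ∀ i : Fin d, g (v i) = Pi.single i 1 := by
    intro i
    have : T (Pi.single i 1) = v i := by
      simp [T, Fintype.linearCombination_apply, Pi.single_apply]
    rw [← this]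
    exact LinearMap.congr_fun hg _
  have hcoeff : ∀ i : Fin d, q.coeff i = 0 := by
    intro i
    let φ : B →ₗ[k] k := (LinearMap.proj i).comp g
    let ψ : K ⊗[k] B →ₗ[K] K :=
      (TensorProduct.AlgebraTensorModule.rid k K K).toLinearMap.comp (φ.baseChange K)
    have hψ : ∀ (c : K) (b : B), ψ (c ⊗ₜ b) = φ b • c := by
      intro c b
      simp [ψ]
    have h0 : ψ (aeval X1 q) = 0 := by rw [hq0, map_zero]
    rw [aeval_eq_sum_range, map_sum] at h0
    have hterm : ∀ j ∈ Finset.range (q.natDegree + 1),
        ψ (q.coeff j • X1 ^ j) = if j = (i : ℕ) then q.coeff j else 0 := by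
      intro j hj
      have hjd : j < d := by
        have := Finset.mem_range.mp hj
        omega
      rw [map_smul, hX1, Algebra.TensorProduct.tmul_pow, one_pow, hψ]
      have hvj : x ^ j = v ⟨j, hjd⟩ := rfl
      have hφ : φ (x ^ j) = if j = (i : ℕ) then 1 else 0 := by
        rw [hvj]
        show (g (v ⟨j, hjd⟩)) i = _
        rw [hgv, Pi.single_apply]
        by_cases hji : j = (i : ℕ)
        · have : i = ⟨j, hjd⟩ := Fin.ext hji.symm
          rw [if_pos this, if_pos hji]
        · have : i ≠ ⟨j, hjd⟩ := fun h => hji (by rw [h])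
          rw [if_neg this, if_neg hji]
      rw [hφ]
      by_cases hji : j = (i : ℕ)
      · simp [hji]
      · simp [hji]
    rw [Finset.sum_congr rfl hterm, Finset.sum_ite_eq'] at h0
    have hmem : (i : ℕ) ∈ Finset.range (q.natDegree + 1) := by
      rw [Finset.mem_range, hdeg]
      exact i.2
    rwa [if_pos hmem] at h0
  apply hqne
  ext j
  rw [coeff_zero]
  by_cases hj : j < d
  · exact hcoeff ⟨j, hj⟩
  · apply coeff_eq_zero_of_natDegree_lt
    omega

end Groth.Agent.Lib.Helper32.MaxEt
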