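import Mathlib
import Groth.Agent.Lib.Helper32.MaxEt.Sep

namespace Groth.Agent.Lib.Helper32.MaxEt

open Polynomial TensorProduct

theorem formallyUnramified_of_adjoin {k T : Type*} [Field k] [CommRing T] [Algebra k T]
    (S : Set T) (hS : Algebra.adjoin k S = ⊤) (hsep : ∀ s ∈ S, IsSeparable k s) :
    Algebra.FormallyUnramified k T := by
  rw [Algebra.formallyUnramified_iff]
  have hD : ∀ t : T, KaehlerDifferential.D k T t = 0 := by
    intro t
    have ht : t ∈ Algebra.adjoin k S := by rw [hS]; trivial
    induction ht using Algebra.adjoin_induction with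
    | mem s hs =>
      have hsp := hsep s hs
      have h1 : KaehlerDifferential.D k T (aeval s (minpoly k s)) = 0 := by
        rw [minpoly.aeval, map_zero]
      rw [Derivation.map_aeval] at h1
      obtain ⟨a, b, hab⟩ := hsp
      have hu : aeval s b * aeval s (derivative (minpoly k s)) = 1 := by
        have := congrArg (aeval s) hab
        simpa [minpoly.aeval] using this
      calc KaehlerDifferential.D k T s
          = (aeval s b * aeval s (derivative (minpoly k s))) • KaehlerDifferential.D k T s := by
            rw [hu, one_smul]
        _ = 0 := by rw [mul_smul, h1, smul_zero]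
    | algebraMap r => exact (KaehlerDifferential.D k T).map_algebraMap r
    | add x y _ _ hx hy => rw [map_add, hx, hy, add_zero]
    | mul x y _ _ hx hy => rw [Derivation.leibniz, hx, hy, smul_zero, smul_zero, add_zero]
  have htop : (⊤ : Submodule T Ω[T⁄k]) = ⊥ := by
    rw [← KaehlerDifferential.span_range_derivation, Submodule.span_eq_bot]
    rintro _ ⟨t, rfl⟩
    exact hD t
  refine subsingleton_of_forall_eq 0 fun x => ?_
  have hx : x ∈ (⊤ : Submodule T Ω[T⁄k]) := trivial
  rw [htop] at hx
  exact (Submodule.mem_bot T).mp hx

theorem isSeparable_of_formallyUnramified {k T : Type*} [Field k] [CommRing T] [Algebra k T]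
    [Module.Finite k T] [Algebra.FormallyUnramified k T] (x : T) : IsSeparable k x := by
  apply isSeparable_of_forall_nilpotent x (Algebra.IsIntegral.isIntegral x)
  intro q hq
  haveI : IsReduced (AlgebraicClosure k ⊗[k] T) :=
    Algebra.FormallyUnramified.isReduced_of_field (AlgebraicClosure k) _
  exact IsReduced.eq_zero _ ⟨2, by rw [pow_two]; exact hq⟩

end Groth.Agent.Lib.Helper32.MaxEt
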