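import Mathlib
import Groth.Agent.Lib.Helper32.MaxEt.Unram
import Groth.Agent.Lib.Helper32.MaxEt.Retract

namespace Groth.Agent.Lib.Helper32.MaxEt

open Polynomial TensorProduct

theorem isSeparable_of_adjoin_eq_top {k A T : Type*} [Field k] [Ring A] [Algebra k A]
    [CommRing T] [Algebra k T] [Module.Finite k T] (f : T →ₐ[k] A) (hf : Function.Injective f)
    (S' : Set T) (hS' : Algebra.adjoin k S' = ⊤) (hsep : ∀ s ∈ S', IsSeparable k (f s)) :
    ∀ t : T, IsSeparable k (f t) := by
  intro t
  haveI : Algebra.FormallyUnramified k T := by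
    apply formallyUnramified_of_adjoin S' hS'
    intro s hs
    exact (isSeparable_map_iff f hf).mp (hsep s hs)
  exact (isSeparable_map_iff f hf).mpr (isSeparable_of_formallyUnramified (k := k) t)

theorem isSemisimpleRing_of_tensor {k : Type*} [Field k] (K : Type*) [Field K] [Algebra k K]
    (B : Type*) [Ring B] [Algebra k B] [IsSemisimpleRing (K ⊗[k] B)] : IsSemisimpleRing B := by
  have hker : LinearMap.ker (Algebra.linearMap k K) = ⊥ :=
    LinearMap.ker_eq_bot.mpr (algebraMap k K).injective
  obtain ⟨g, hg⟩ := LinearMap.exists_leftInverse_of_injective (Algebra.linearMap k K) hker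
  have hg1 : g 1 = 1 := by
    have := LinearMap.congr_fun hg 1
    simpa using this
  let π : K ⊗[k] B →ₗ[k] B := (TensorProduct.lid k B).toLinearMap.comp (g.rTensor B)
  have hπ : ∀ (κ : K) (b : B), π (κ ⊗ₜ b) = g κ • b := by
    intro κ b
    simp [π]
  let ι : B →ₐ[k] K ⊗[k] B := Algebra.TensorProduct.includeRight
  refine isSemisimpleRing_of_retraction (ι : B →+* K ⊗[k] B) π.toAddMonoidHom ?_ ?_ ?_
  · intro b
    show π ((1 : K) ⊗ₜ b) = b
    rw [hπ, hg1, one_smul]
  · intro b a
    show π (((1 : K) ⊗ₜ b) * a) = b * π a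
    induction a using TensorProduct.induction_on with
    | zero => simp
    | tmul κ a' =>
      rw [Algebra.TensorProduct.tmul_mul_tmul, one_mul, hπ, hπ, mul_smul_comm]
    | add x y hx hy => rw [mul_add, map_add, hx, hy, map_add, mul_add]
  · intro a b
    show π (a * ((1 : K) ⊗ₜ b)) = π a * b
    induction a using TensorProduct.induction_on with
    | zero => simp
    | tmul κ a' =>
      rw [Algebra.TensorProduct.tmul_mul_tmul, mul_one, hπ, hπ, smul_mul_assoc]
    | add x y hx hy => rw [add_mul, map_add, hx, hy, map_add, add_mul]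

theorem isSeparable_of_central {k : Type*} [Field k] {B : Type*} [Ring B] [Algebra k B]
    [FiniteDimensional k B] [IsSemisimpleRing (AlgebraicClosure k ⊗[k] B)]
    (x : B) (hx : ∀ b, x * b = b * x) : IsSeparable k x := by
  apply isSeparable_of_forall_nilpotent x (Algebra.IsIntegral.isIntegral x)
  have hX : ∀ r : AlgebraicClosure k ⊗[k] B,
      Commute ((1 : AlgebraicClosure k) ⊗ₜ[k] x) r := by
    intro r
    induction r using TensorProduct.induction_on with
    | zero => exact Commute.zero_right _
    | tmul κ b =>
      show _ * _ = _ * _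
      rw [Algebra.TensorProduct.tmul_mul_tmul, Algebra.TensorProduct.tmul_mul_tmul, hx b,
        one_mul, mul_one]
    | add y z hy hz => exact hy.add_right hz
  have hC : ∀ (p : (AlgebraicClosure k)[X]) (r : AlgebraicClosure k ⊗[k] B),
      Commute (aeval ((1 : AlgebraicClosure k) ⊗ₜ[k] x) p) r := by
    intro p r
    induction p using Polynomial.induction_on' with
    | add p p' hp hp' =>
      rw [map_add]
      exact hp.add_left hp'
    | monomial n c =>
      rw [aeval_monomial]
      exact ((Algebra.commute_algebraMap_left c r).mul_left ((hX r).pow_left n))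
  intro q hq
  exact eq_zero_of_central_sq_zero _ (fun r => hC q r) hq

end Groth.Agent.Lib.Helper32.MaxEt
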