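import Mathlib

namespace Groth.Agent.Lib.Helper32.MaxEt

open Polynomial

theorem exists_separable_not_central {k : Type*} [Field k] {D : Type*} [DivisionRing D]
    [Algebra k D] [Module.Finite k D] (hnc : ∃ u v : D, u * v ≠ v * u)
    (hZ : ∀ ζ : D, (∀ b, ζ * b = b * ζ) → IsSeparable k ζ) :
    ∃ x : D, (∃ b, x * b ≠ b * x) ∧ IsSeparable k x := by
  let Z := Subring.center D
  letI : Algebra k Z := ((algebraMap k D).codRestrict Z
    (fun r => Subring.mem_center_iff.mpr (fun g => (Algebra.commutes r g).symm))).toAlgebra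
  haveI : IsScalarTower k Z D := IsScalarTower.of_algebraMap_eq (fun _ => rfl)
  haveI : Algebra.IsAlgebraic k D := Algebra.IsAlgebraic.of_finite k D
  haveI : Algebra.IsAlgebraic Z D := Algebra.IsAlgebraic.tower_top (K := k) Z
  have hne : Z ≠ ⊤ := by
    obtain ⟨u, v, huv⟩ := hnc
    intro h
    have : v ∈ Z := by rw [h]; trivial
    exact huv (Subring.mem_center_iff.mp this u)
  obtain ⟨x, hxZ, hxsep⟩ := JacobsonNoether.exists_separable_and_not_isCentral D hne
  refine ⟨x, ?_, ?_⟩
  · by_contra hcon
    push_neg at hcon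
    exact hxZ (Subring.mem_center_iff.mpr (fun g => (hcon g).symm))
  · haveI : Algebra.IsSeparable k Z := by
      refine ⟨fun ζ => ?_⟩
      have h1 := hZ (ζ : D) (fun b => (Subring.mem_center_iff.mp ζ.2 b).symm)
      exact (isSeparable_map_iff (IsScalarTower.toAlgHom k Z D)
        (Subtype.val_injective)).mp h1
    have hint : IsIntegral Z x := Algebra.IsIntegral.isIntegral x
    set q := minpoly Z x with hq
    haveI : Fact (Irreducible q) := ⟨minpoly.irreducible hint⟩
    have hq0 : q ≠ 0 := minpoly.ne_zero hint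
    have hqm : q.Monic := minpoly.monic hint
    let α : AdjoinRoot q := AdjoinRoot.root q
    have hα : IsSeparable Z α := by
      show (minpoly Z α).Separable
      rw [AdjoinRoot.minpoly_root hq0, hqm.leadingCoeff, inv_one, map_one, mul_one]
      exact hxsep
    have hαk : IsSeparable k α := IsSeparable.of_algebra_isSeparable_of_isSeparable k hα
    set g := minpoly k α with hg
    have h0 : aeval α (g.map (algebraMap k Z)) = 0 := by
      rw [aeval_map_algebraMap, minpoly.aeval]
    rw [AdjoinRoot.aeval_eq, AdjoinRoot.mk_eq_zero] at h0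
    obtain ⟨h, hh⟩ := h0
    have hx0 : aeval x g = 0 := by
      rw [← aeval_map_algebraMap Z x g, hh, map_mul, minpoly.aeval, zero_mul]
    exact hαk.of_dvd (minpoly.dvd k x hx0)

end Groth.Agent.Lib.Helper32.MaxEt
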