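import Mathlib
import Groth.Agent.Lib.Helper32.MaxEt.Retract

namespace Groth.Agent.Lib.Helper32.MaxEt

open TensorProduct

variable {k : Type*} [Field k] {A : Type*} [Ring A] [Algebra k A]
  {Lc : Type*} [CommRing Lc] [Algebra k Lc] (j : Lc →ₐ[k] A)

noncomputable def Phi : Lc ⊗[k] Lc →ₗ[k] (A →ₗ[k] A) :=
  TensorProduct.lift
    (LinearMap.mk₂ k (fun l l' => (LinearMap.mulLeft k (j l)).comp (LinearMap.mulRight k (j l')))
      (fun l₁ l₂ l' => by ext a; simp [add_mul])
      (fun c l l' => by ext a; simp)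
      (fun l l₁ l₂ => by ext a; simp [mul_add])
      (fun c l l' => by ext a; simp))

@[simp] lemma Phi_tmul (l l' : Lc) (a : A) : Phi j (l ⊗ₜ l') a = j l * (a * j l') := by
  simp [Phi]

lemma Phi_left (s : Lc) (u : Lc ⊗[k] Lc) (a : A) :
    Phi j ((s ⊗ₜ 1) * u) a = j s * Phi j u a := by
  induction u using TensorProduct.induction_on with
  | zero => simp
  | tmul l l' => simp [Algebra.TensorProduct.tmul_mul_tmul, mul_assoc]
  | add x y hx hy => simp [mul_add, hx, hy]

lemma Phi_right (s : Lc) (u : Lc ⊗[k] Lc) (a : A) :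
    Phi j (((1 : Lc) ⊗ₜ s) * u) a = Phi j u a * j s := by
  induction u using TensorProduct.induction_on with
  | zero => simp
  | tmul l l' =>
    simp only [Algebra.TensorProduct.tmul_mul_tmul, one_mul, Phi_tmul, map_mul, mul_assoc]
    rw [← map_mul, mul_comm s l', map_mul]
  | add x y hx hy => simp [mul_add, add_mul, hx, hy]

lemma Phi_comm_left (u : Lc ⊗[k] Lc) (c : A) (hc : ∀ l, c * j l = j l * c) (a : A) :
    Phi j u (c * a) = c * Phi j u a := by
  induction u using TensorProduct.induction_on with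
  | zero => simp
  | tmul l l' =>
    simp only [Phi_tmul]
    rw [mul_assoc c a, ← mul_assoc (j l) c, ← hc l, mul_assoc]
  | add x y hx hy => simp [mul_add, hx, hy]

lemma Phi_comm_right (u : Lc ⊗[k] Lc) (c : A) (hc : ∀ l, c * j l = j l * c) (a : A) :
    Phi j u (a * c) = Phi j u a * c := by
  induction u using TensorProduct.induction_on with
  | zero => simp
  | tmul l l' =>
    simp only [Phi_tmul]
    rw [mul_assoc a c, hc l', ← mul_assoc a, ← mul_assoc (j l)]
  | add x y hx hy => simp [add_mul, hx, hy]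

lemma Phi_one (u : Lc ⊗[k] Lc) : Phi j u 1 = j (Algebra.TensorProduct.lmul' k u) := by
  induction u using TensorProduct.induction_on with
  | zero => simp
  | tmul l l' => simp
  | add x y hx hy => simp [hx, hy]

theorem exists_retraction [Algebra.FormallyUnramified k Lc] [Algebra.EssFiniteType k Lc] :
    ∃ π : A →ₗ[k] A, (∀ a l, π a * j l = j l * π a) ∧
      (∀ c : A, (∀ l, c * j l = j l * c) → π c = c) ∧
      (∀ c : A, (∀ l, c * j l = j l * c) → ∀ a, π (c * a) = c * π a) ∧
      (∀ c : A, (∀ l, c * j l = j l * c) → ∀ a, π (a * c) = π a * c) := by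
  obtain ⟨t, ht1, ht2⟩ :=
    (Algebra.FormallyUnramified.iff_exists_tensorProduct (R := k) (S := Lc)).mp inferInstance
  refine ⟨Phi j t, ?_, ?_, ?_, ?_⟩
  · intro a l
    have h := ht1 l
    rw [sub_mul, sub_eq_zero] at h
    rw [← Phi_right, ← Phi_left, h]
  · intro c hc
    have := Phi_comm_left j t c hc 1
    rw [mul_one] at this
    rw [this, Phi_one, ht2, map_one, mul_one]
  · intro c hc a
    exact Phi_comm_left j t c hc a
  · intro c hc a
    exact Phi_comm_right j t c hc a

end Groth.Agent.Lib.Helper32.MaxEt
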