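import Mathlib
import Groth.Agent.Lib.Helper32.MaxEt.Retract

namespace Groth.Agent.Lib.Helper32.MaxEt

open TensorProduct

variable {k : Type*} [Field k] {A : Type*} [Ring A] [Algebra k A]

theorem isSemisimpleRing_tensor_of_retraction (K : Type*) [CommRing K] [Algebra k K]
    [IsSemisimpleRing (K ⊗[k] A)] (C : Subalgebra k A) (π : A →ₗ[k] A)
    (hmem : ∀ a, π a ∈ C) (hid : ∀ c ∈ C, π c = c)
    (hl : ∀ c ∈ C, ∀ a, π (c * a) = c * π a) (hr : ∀ c ∈ C, ∀ a, π (a * c) = π a * c) :
    IsSemisimpleRing (K ⊗[k] C) := by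
  let ι' : K ⊗[k] C →ₐ[K] K ⊗[k] A := Algebra.TensorProduct.map (AlgHom.id K K) C.val
  let π₀ : A →ₗ[k] C := π.codRestrict (Subalgebra.toSubmodule C) hmem
  let π'' : K ⊗[k] A →ₗ[K] K ⊗[k] C := π₀.baseChange K
  have hπ₀ : ∀ c : C, π₀ (c : A) = c := fun c => Subtype.ext (hid c c.2)
  have hπ₀l : ∀ (c : C) (a : A), π₀ ((c : A) * a) = c * π₀ a :=
    fun c a => Subtype.ext (hl c c.2 a)
  have hπ₀r : ∀ (a : A) (c : C), π₀ (a * (c : A)) = π₀ a * c :=
    fun a c => Subtype.ext (hr c c.2 a)
  refine isSemisimpleRing_of_retraction (ι' : K ⊗[k] C →+* K ⊗[k] A) π''.toAddMonoidHom ?_ ?_ ?_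
  · intro b
    induction b using TensorProduct.induction_on with
    | zero => simp
    | tmul κ c =>
      show π'' (ι' (κ ⊗ₜ c)) = _
      simp [ι', π'', hπ₀]
    | add x y hx hy =>
      simp only [map_add] at hx hy ⊢
      rw [hx, hy]
  · intro b a
    show π'' (ι' b * a) = b * π'' a
    induction b using TensorProduct.induction_on with
    | zero => simp
    | tmul κ c =>
      induction a using TensorProduct.induction_on with
      | zero => simp
      | tmul κ' a' =>
        simp [ι', π'', Algebra.TensorProduct.tmul_mul_tmul, hπ₀l]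
      | add x y hx hy =>
        rw [mul_add, map_add, hx, hy, map_add, mul_add]
    | add x y hx hy =>
      rw [map_add, add_mul, map_add, hx, hy, add_mul]
  · intro a b
    show π'' (a * ι' b) = π'' a * b
    induction b using TensorProduct.induction_on with
    | zero => simp
    | tmul κ c =>
      induction a using TensorProduct.induction_on with
      | zero => simp
      | tmul κ' a' =>
        simp [ι', π'', Algebra.TensorProduct.tmul_mul_tmul, hπ₀r]
      | add x y hx hy =>
        rw [add_mul, map_add, hx, hy, map_add, add_mul]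
    | add x y hx hy =>
      rw [map_add, mul_add, map_add, hx, hy, mul_add]

theorem isSemisimpleRing_of_retraction' [IsSemisimpleRing A] (C : Subalgebra k A) (π : A →ₗ[k] A)
    (hmem : ∀ a, π a ∈ C) (hid : ∀ c ∈ C, π c = c)
    (hl : ∀ c ∈ C, ∀ a, π (c * a) = c * π a) (hr : ∀ c ∈ C, ∀ a, π (a * c) = π a * c) :
    IsSemisimpleRing C := by
  let π₀ : A →ₗ[k] C := π.codRestrict (Subalgebra.toSubmodule C) hmem
  refine isSemisimpleRing_of_retraction (C.val : C →+* A) π₀.toAddMonoidHom ?_ ?_ ?_
  · intro c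
    exact Subtype.ext (hid c c.2)
  · intro c a
    exact Subtype.ext (hl c c.2 a)
  · intro a c
    exact Subtype.ext (hr c c.2 a)

end Groth.Agent.Lib.Helper32.MaxEt
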