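import Mathlib
import Groth.Agent.Lib.Helper32.MaxEt.Adjoin
import Groth.Agent.Lib.Helper32.MaxEt.Proj
import Groth.Agent.Lib.Helper32.MaxEt.SS
import Groth.Agent.Lib.Helper32.MaxEt.JN

namespace Groth.Agent.Lib.Helper32.MaxEt

open Polynomial TensorProduct

universe u v

variable {k : Type u} [Field k] {A : Type v} [Ring A] [Algebra k A]

theorem exists_retraction_subalgebra [FiniteDimensional k A] (L : Subalgebra k A)
    (hcomm : ∀ x ∈ L, ∀ y ∈ L, x * y = y * x) (hsep : ∀ x ∈ L, IsSeparable k x) :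
    ∃ π : A →ₗ[k] A, (∀ a, ∀ l ∈ L, π a * l = l * π a) ∧
      (∀ c : A, (∀ l ∈ L, c * l = l * c) → π c = c) ∧
      (∀ c : A, (∀ l ∈ L, c * l = l * c) → ∀ a, π (c * a) = c * π a) ∧
      (∀ c : A, (∀ l ∈ L, c * l = l * c) → ∀ a, π (a * c) = π a * c) := by
  letI : CommRing L :=
    { (inferInstance : Ring L) with mul_comm := fun a b => Subtype.ext (hcomm a a.2 b b.2) }
  haveI : Algebra.FormallyUnramified k L :=
    formallyUnramified_of_adjoin Set.univ (Algebra.adjoin_univ k L)
      (fun s _ => (isSeparable_map_iff L.val Subtype.val_injective).mp (hsep s s.2))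
  obtain ⟨π, h1, h2, h3, h4⟩ := exists_retraction (L.val)
  exact ⟨π, fun a l hl => h1 a ⟨l, hl⟩, fun c hc => h2 c (fun l => hc l l.2),
    fun c hc => h3 c (fun l => hc l l.2), fun c hc => h4 c (fun l => hc l l.2)⟩

theorem isSeparable_of_mem_adjoin [FiniteDimensional k A]
    (S : Set A) (hcomm : ∀ x ∈ S, ∀ y ∈ S, x * y = y * x) (hsep : ∀ s ∈ S, IsSeparable k s) :
    ∀ x ∈ Algebra.adjoin k S, IsSeparable k x := by
  intro x hx
  have hc : ∀ a b : Algebra.adjoin k S, a * b = b * a :=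
    (Algebra.isMulCommutative_adjoin k hcomm).is_comm.comm
  letI : CommRing (Algebra.adjoin k S) :=
    { (inferInstance : Ring (Algebra.adjoin k S)) with mul_comm := hc }
  exact isSeparable_of_adjoin_eq_top (Algebra.adjoin k S).val Subtype.val_injective
    (((↑) : Algebra.adjoin k S → A) ⁻¹' S) Algebra.adjoin_adjoin_coe_preimage
    (fun s hs => hsep _ hs) ⟨x, hx⟩

lemma isSeparable_algHom {B B' : Type*} [Ring B] [Ring B'] [Algebra k B] [Algebra k B']
    (f : B →ₐ[k] B') {x : B} (h : IsSeparable k x) : IsSeparable k (f x) := by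
  refine Polynomial.Separable.of_dvd h (minpoly.dvd k (f x) ?_)
  rw [Polynomial.aeval_algHom_apply, minpoly.aeval, map_zero]

lemma isSeparable_of_idempotent {B : Type*} [Ring B] [Algebra k B] (a : B) (h : a * a = a) :
    IsSeparable k a := by
  have hsepg : ((X : k[X]) * (X - C 1)).Separable := by
    refine Polynomial.separable_X.mul (Polynomial.separable_X_sub_C) ?_
    exact ⟨1, -1, by simp⟩
  refine Polynomial.Separable.of_dvd hsepg (minpoly.dvd k a ?_)
  simp [mul_sub, h]

lemma isSeparable_of_X_mul {B : Type*} [Ring B] [Algebra k B] (z : B) (q : k[X])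
    (hq : q.Separable) (hq0 : q.coeff 0 ≠ 0) (h : aeval z (X * q) = 0) : IsSeparable k z := by
  have hcop : IsCoprime (X : k[X]) q := by
    refine ⟨-(C (q.coeff 0)⁻¹ * divX q), C (q.coeff 0)⁻¹, ?_⟩
    have h1 := Polynomial.X_mul_divX_add q
    have h2 : C (q.coeff 0)⁻¹ * C (q.coeff 0) = (1 : k[X]) := by
      rw [← C_mul, inv_mul_cancel₀ hq0, C_1]
    calc -(C (q.coeff 0)⁻¹ * divX q) * X + C (q.coeff 0)⁻¹ * q
        = C (q.coeff 0)⁻¹ * (q - X * divX q) := by ring
      _ = C (q.coeff 0)⁻¹ * C (q.coeff 0) := by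
        congr 1
        rw [sub_eq_iff_eq_add, add_comm]
        exact h1.symm
      _ = 1 := h2
  exact Polynomial.Separable.of_dvd (Polynomial.separable_X.mul hq hcop) (minpoly.dvd k z h)

end Groth.Agent.Lib.Helper32.MaxEt
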