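import Mathlib
import Groth.Agent.Lib.Helper32.MaxEt.Main

namespace Groth.Agent.Lib.Helper32.MaxEt

open Polynomial

universe u v

variable {k : Type u} [Field k] {n : ℕ} {D : Fin n → Type v} {d : Fin n → ℕ}
  [∀ i, DivisionRing (D i)] [∀ i, Algebra k (D i)]

lemma single_scalar_central (i : Fin n) (ζ : D i) (hζ : ∀ b, ζ * b = b * ζ)
    (M : Π i : Fin n, Matrix (Fin (d i)) (Fin (d i)) (D i)) :
    (Pi.single i (Matrix.scalar (Fin (d i)) ζ) :
      Π i : Fin n, Matrix (Fin (d i)) (Fin (d i)) (D i)) * M =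
      M * Pi.single i (Matrix.scalar (Fin (d i)) ζ) := by
  funext i'
  by_cases hi' : i' = i
  · subst hi'
    simp only [Pi.mul_apply, Pi.single_eq_same]
    exact (Matrix.scalar_commute ζ (fun r' => hζ r') (M i')).eq
  · simp [Pi.mul_apply, Pi.single_eq_of_ne hi']

lemma isSeparable_of_single_scalar (i : Fin n) [NeZero (d i)] (ζ : D i)
    (h : IsSeparable k (Pi.single i (Matrix.scalar (Fin (d i)) ζ) :
      Π i : Fin n, Matrix (Fin (d i)) (Fin (d i)) (D i))) : IsSeparable k ζ := by
  have h2 : IsSeparable k (Matrix.scalarAlgHom (Fin (d i)) k ζ) := by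
    have h3 := isSeparable_algHom
      (Pi.evalAlgHom k (fun i : Fin n => Matrix (Fin (d i)) (Fin (d i)) (D i)) i) h
    have h4 : (Pi.evalAlgHom k (fun i : Fin n => Matrix (Fin (d i)) (Fin (d i)) (D i)) i)
        (Pi.single i (Matrix.scalar (Fin (d i)) ζ)) = Matrix.scalarAlgHom (Fin (d i)) k ζ :=
      Pi.single_eq_same i _
    rw [h4] at h3
    exact h3
  have hinj : Function.Injective (Matrix.scalarAlgHom (Fin (d i)) k : D i →ₐ[k] _) := by
    intro r s hrs
    have h := congrFun (congrFun hrs 0) 0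
    simpa using h
  have hmin := minpoly.algHom_eq (Matrix.scalarAlgHom (Fin (d i)) k : D i →ₐ[k] _) hinj ζ
  unfold IsSeparable at h2 ⊢
  rw [← hmin]
  exact h2

lemma isSeparable_single_scalar (i : Fin n) (x : D i) (hx0 : x ≠ 0) (hint : IsIntegral k x)
    (hxsep : IsSeparable k x) :
    IsSeparable k (Pi.single i (Matrix.scalar (Fin (d i)) x) :
      Π i : Fin n, Matrix (Fin (d i)) (Fin (d i)) (D i)) := by
  apply isSeparable_of_X_mul _ (minpoly k x) hxsep (minpoly.coeff_zero_ne_zero hint hx0)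
  funext i'
  have hev : ∀ Z : (Π i : Fin n, Matrix (Fin (d i)) (Fin (d i)) (D i)),
      (aeval Z (X * minpoly k x)) i' = aeval (Z i') (X * minpoly k x) := by
    intro Z
    have := Polynomial.aeval_algHom_apply
      (Pi.evalAlgHom k (fun i : Fin n => Matrix (Fin (d i)) (Fin (d i)) (D i)) i') Z
      (X * minpoly k x)
    exact this.symm
  rw [hev]
  by_cases hi' : i' = i
  · subst hi'
    have h1 : (Pi.single i' (Matrix.scalar (Fin (d i')) x) :
        Π i : Fin n, Matrix (Fin (d i)) (Fin (d i)) (D i)) i' =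
        Matrix.scalarAlgHom (Fin (d i')) k x := by simp
    rw [h1, Polynomial.aeval_algHom_apply, map_mul, minpoly.aeval, mul_zero, map_zero]
    rfl
  · have h1 : (Pi.single i (Matrix.scalar (Fin (d i)) x) :
        Π i : Fin n, Matrix (Fin (d i)) (Fin (d i)) (D i)) i' = 0 := by
      simp [Pi.single_eq_of_ne hi']
    rw [h1, ← Polynomial.coeff_zero_eq_aeval_zero']
    simp

lemma exists_idempotent_noncentral (i : Fin n) (hi : 2 ≤ d i) :
    ∃ E F : (Π i : Fin n, Matrix (Fin (d i)) (Fin (d i)) (D i)),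
      E * E = E ∧ E * F ≠ F * E := by
  classical
  let i₀ : Fin (d i) := ⟨0, by omega⟩
  let i₁ : Fin (d i) := ⟨1, by omega⟩
  have h01 : i₁ ≠ i₀ := by
    intro h
    have := congrArg Fin.val h
    simp [i₀, i₁] at this
  let E : Π i : Fin n, Matrix (Fin (d i)) (Fin (d i)) (D i) :=
    Pi.single i (Matrix.single i₀ i₀ 1)
  let F : Π i : Fin n, Matrix (Fin (d i)) (Fin (d i)) (D i) :=
    Pi.single i (Matrix.single i₀ i₁ 1)
  have hEE : E * E = E := by
    simp only [E, ← Pi.single_mul, Matrix.single_mul_single_same, mul_one]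
  have hEF : E * F = F := by
    simp only [E, F, ← Pi.single_mul, Matrix.single_mul_single_same, mul_one]
  have hFE : F * E = 0 := by
    simp only [E, F, ← Pi.single_mul]
    rw [Matrix.single_mul_single_of_ne (h := h01), Pi.single_zero]
  have hF0 : F ≠ 0 := by
    intro h
    have := congrFun (congrFun (congrFun h i) i₀) i₁
    simp [F] at this
  refine ⟨E, F, hEE, ?_⟩
  rw [hEF, hFE]
  exact hF0

lemma pi_comm_of (ha : ∀ i, d i < 2) (hb : ∀ i, ∀ u v : D i, u * v = v * u)
    (M N : Π i : Fin n, Matrix (Fin (d i)) (Fin (d i)) (D i)) : M * N = N * M := by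
  funext i
  haveI : Subsingleton (Fin (d i)) := by
    have := ha i
    exact Fin.subsingleton_iff_le_one.mpr (by omega)
  ext a b
  simp only [Pi.mul_apply, Matrix.mul_apply]
  apply Finset.sum_congr rfl
  intro c _
  rw [Subsingleton.elim c a, Subsingleton.elim b a]
  exact hb i _ _

theorem exists_separable_noncentral_pi [∀ i, Module.Finite k (D i)] (hd : ∀ i, NeZero (d i))
    (hcen : ∀ W : (Π i : Fin n, Matrix (Fin (d i)) (Fin (d i)) (D i)),
      (∀ M, W * M = M * W) → IsSeparable k W)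
    (hnc : ∃ M N : (Π i : Fin n, Matrix (Fin (d i)) (Fin (d i)) (D i)), M * N ≠ N * M) :
    ∃ Z N : (Π i : Fin n, Matrix (Fin (d i)) (Fin (d i)) (D i)),
      IsSeparable k Z ∧ Z * N ≠ N * Z := by
  by_cases ha : ∃ i, 2 ≤ d i
  · obtain ⟨i, hi⟩ := ha
    obtain ⟨E, F, hEE, hEF⟩ := exists_idempotent_noncentral (D := D) i hi
    exact ⟨E, F, isSeparable_of_idempotent E hEE, hEF⟩
  · by_cases hb : ∃ i, ∃ u v : D i, u * v ≠ v * u
    · obtain ⟨i, hnc'⟩ := hb
      haveI := hd i
      have hZi : ∀ ζ : D i, (∀ b, ζ * b = b * ζ) → IsSeparable k ζ := by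
        intro ζ hζ
        exact isSeparable_of_single_scalar i ζ
          (hcen _ (single_scalar_central i ζ hζ))
      obtain ⟨x, ⟨b, hxb⟩, hxsep⟩ := exists_separable_not_central hnc' hZi
      have hx0 : x ≠ 0 := by
        rintro rfl
        simp at hxb
      refine ⟨Pi.single i (Matrix.scalar (Fin (d i)) x),
        Pi.single i (Matrix.scalar (Fin (d i)) b),
        isSeparable_single_scalar i x hx0 (Algebra.IsIntegral.isIntegral x) hxsep, ?_⟩
      intro h
      have h'' := congrFun h i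
      simp only [Pi.mul_apply, Pi.single_eq_same] at h''
      rw [← map_mul, ← map_mul] at h''
      exact hxb (Matrix.scalar_inj.mp h'')
    · exfalso
      push Not at ha hb
      obtain ⟨M, N, hMN⟩ := hnc
      exact hMN (pi_comm_of ha hb M N)

end Groth.Agent.Lib.Helper32.MaxEt
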