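import Mathlib
import Groth.Agent.Lib.Helper32.MaxEt.Main
import Groth.Agent.Lib.Helper32.MaxEt.PiMat

namespace Groth.Agent.Lib.Helper32.MaxEt

open Polynomial TensorProduct

universe u v

variable {k : Type u} [Field k] {A : Type v} [Ring A] [Algebra k A]

set_option maxHeartbeats 1600000 in
theorem centralizer_le_of_maximal [FiniteDimensional k A]
    (hss : IsSemisimpleRing (AlgebraicClosure k ⊗[k] A)) (L : Subalgebra k A)
    (hcomm : ∀ x ∈ L, ∀ y ∈ L, x * y = y * x) (hsep : ∀ x ∈ L, IsSeparable k x)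
    (hmax : ∀ L' : Subalgebra k A, (∀ x ∈ L', ∀ y ∈ L', x * y = y * x) →
      (∀ x ∈ L', IsSeparable k x) → L ≤ L' → L' = L) :
    Subalgebra.centralizer k (L : Set A) ≤ L := by
  classical
  set C := Subalgebra.centralizer k (L : Set A) with hC
  have hmemC : ∀ c : A, c ∈ C ↔ ∀ l ∈ L, l * c = c * l :=
    fun c => Subalgebra.mem_centralizer_iff k
  have hLC : L ≤ C := fun l hl => (hmemC l).mpr (fun l' hl' => hcomm l' hl' l hl)
  obtain ⟨π, h1, h2, h3, h4⟩ := exists_retraction_subalgebra L hcomm hsep
  have hC' : ∀ c : A, c ∈ C → ∀ l ∈ L, c * l = l * c :=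
    fun c hc l hl => ((hmemC c).mp hc l hl).symm
  haveI : IsSemisimpleRing (AlgebraicClosure k ⊗[k] C) :=
    isSemisimpleRing_tensor_of_retraction (AlgebraicClosure k) C π
      (fun a => (hmemC _).mpr (fun l hl => (h1 a l hl).symm))
      (fun c hc => h2 c (hC' c hc)) (fun c hc => h3 c (hC' c hc)) (fun c hc => h4 c (hC' c hc))
  haveI : IsSemisimpleRing C := isSemisimpleRing_of_tensor (k := k) (AlgebraicClosure k) C
  have hcenter : ∀ z : C, (∀ c : C, z * c = c * z) → (z : A) ∈ L := by
    let Zs : Subalgebra k A := (Subalgebra.center k C).map C.val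
    have hZs : ∀ a, a ∈ Zs ↔ ∃ z : C, (∀ c : C, z * c = c * z) ∧ (z : A) = a := by
      intro a
      simp only [Zs, Subalgebra.mem_map, Subalgebra.mem_center_iff]
      constructor
      · rintro ⟨z, hz, rfl⟩
        exact ⟨z, fun c => (hz c).symm, rfl⟩
      · rintro ⟨z, hz, rfl⟩
        exact ⟨z, fun c => (hz c).symm, rfl⟩
    have hZL : Zs = L := by
      apply hmax
      · intro x hx y hy
        obtain ⟨z, hz, rfl⟩ := (hZs x).mp hx
        obtain ⟨w, hw, rfl⟩ := (hZs y).mp hy
        exact congrArg Subtype.val (hz w)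
      · intro x hx
        obtain ⟨z, hz, rfl⟩ := (hZs x).mp hx
        exact (isSeparable_map_iff C.val Subtype.val_injective).mpr (isSeparable_of_central z hz)
      · intro l hl
        exact (hZs l).mpr ⟨⟨l, hLC hl⟩, fun c => Subtype.ext ((hmemC c.1).mp c.2 l hl), rfl⟩
    intro z hz
    rw [← hZL]
    exact (hZs _).mpr ⟨z, hz, rfl⟩
  intro y hy
  by_contra hyL
  have key : ∃ z : C, IsSeparable k (z : A) ∧ ∃ c : C, z * c ≠ c * z := by
    obtain ⟨n, D, d, _, _, _, hd, ⟨ψ⟩⟩ :=
      IsSemisimpleRing.exists_algEquiv_pi_matrix_divisionRing_finite k C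
    have hcen : ∀ W : (Π i : Fin n, Matrix (Fin (d i)) (Fin (d i)) (D i)),
        (∀ M, W * M = M * W) → IsSeparable k W := by
      intro W hW
      have hwc : ∀ c : C, ψ.symm W * c = c * ψ.symm W := by
        intro c
        apply ψ.injective
        rw [map_mul, map_mul, AlgEquiv.apply_symm_apply]
        exact hW (ψ c)
      have hwL := hcenter (ψ.symm W) hwc
      have hwsep : IsSeparable k (ψ.symm W : C) := by
        have hmin := minpoly.algHom_eq C.val Subtype.val_injective (ψ.symm W)
        unfold IsSeparable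
        rw [← hmin]
        exact hsep _ hwL
      have h5 := isSeparable_algHom ψ.toAlgHom hwsep
      have h6 : ψ.toAlgHom (ψ.symm W) = W := ψ.apply_symm_apply W
      rw [h6] at h5
      exact h5
    have hnc : ∃ M N : (Π i : Fin n, Matrix (Fin (d i)) (Fin (d i)) (D i)), M * N ≠ N * M := by
      by_contra hcon
      push Not at hcon
      apply hyL
      exact hcenter ⟨y, hy⟩ (fun c => by
        apply ψ.injective
        rw [map_mul, map_mul]
        exact hcon _ _)
    obtain ⟨Z, N, hZsep, hZN⟩ := exists_separable_noncentral_pi hd hcen hnc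
    refine ⟨ψ.symm Z, ?_, ψ.symm N, ?_⟩
    · have h : IsSeparable k (ψ.symm Z : C) := isSeparable_algHom ψ.symm.toAlgHom hZsep
      have hmin := minpoly.algHom_eq C.val Subtype.val_injective (ψ.symm Z)
      unfold IsSeparable at h ⊢
      rw [← hmin] at h
      exact h
    · rw [← map_mul, ← map_mul]
      intro h
      exact hZN (ψ.symm.injective h)
  obtain ⟨z, hzsep, c, hzc⟩ := key
  let S : Set A := (L : Set A) ∪ {(z : A)}
  have hScomm : ∀ x ∈ S, ∀ y ∈ S, x * y = y * x := by
    rintro x (hx | hx) y (hy | hy)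
    · exact hcomm x hx y hy
    · rw [Set.mem_singleton_iff] at hy
      subst hy
      exact (hmemC _).mp z.2 x hx
    · rw [Set.mem_singleton_iff] at hx
      subst hx
      exact ((hmemC _).mp z.2 y hy).symm
    · rw [Set.mem_singleton_iff] at hx hy
      rw [hx, hy]
  have hSsep : ∀ s ∈ S, IsSeparable k s := by
    rintro s (hs | hs)
    · exact hsep s hs
    · rw [Set.mem_singleton_iff] at hs
      rw [hs]
      exact hzsep
  have hL' : Algebra.adjoin k S = L := by
    apply hmax
    · intro x hx y hy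
      exact congrArg Subtype.val
        ((Algebra.isMulCommutative_adjoin k hScomm).is_comm.comm ⟨x, hx⟩ ⟨y, hy⟩)
    · exact isSeparable_of_mem_adjoin S hScomm hSsep
    · intro l hl
      exact Algebra.subset_adjoin (Or.inl hl)
  have hzL : (z : A) ∈ L := by
    rw [← hL']
    exact Algebra.subset_adjoin (Or.inr rfl)
  apply hzc
  exact Subtype.ext ((hmemC c.1).mp c.2 z hzL)

end Groth.Agent.Lib.Helper32.MaxEt
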